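import Mathlib

/-!
# The top exterior power of a split cokernel of free modules
-/

set_option autoImplicit false

universe u v

open scoped TensorProduct
open Module

namespace Groth.Agent.H1DetSeq

variable {B : Type u} [CommRing B] {r m : ℕ} {Q : Type v} [AddCommGroup Q] [Module B Q]

/-- `q ↦ det (ι e₁, …, ι e_r, s q₁, …, s q_m)`. -/
noncomputable def phi (ι : (Fin r → B) →ₗ[B] (Fin r ⊕ Fin m → B)) (s : Q →ₗ[B] (Fin r ⊕ Fin m → B)) :
    Q [⋀^Fin m]→ₗ[B] B where
  toFun q := Matrix.det (Matrix.of (Sum.elim (fun i => ι (Pi.single i 1)) (fun j => s (q j))))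
  map_update_add' := fun {inst} q i x y => by
    obtain rfl : inst = instDecidableEqFin m := Subsingleton.elim _ _
    have h : ∀ z, (fun j => s (Function.update q i z j)) = Function.update (fun j => s (q j)) i (s z) :=
      fun z => funext (Function.apply_update (fun _ => ⇑s) q i z)
    simp only [h, Sum.elim_update_right, map_add]
    exact Matrix.detRowAlternating.map_update_add _ _ _ _
  map_update_smul' := fun {inst} q i c x => by
    obtain rfl : inst = instDecidableEqFin m := Subsingleton.elim _ _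
    have h : ∀ z, (fun j => s (Function.update q i z j)) = Function.update (fun j => s (q j)) i (s z) :=
      fun z => funext (Function.apply_update (fun _ => ⇑s) q i z)
    simp only [h, Sum.elim_update_right, map_smul]
    exact Matrix.detRowAlternating.map_update_smul _ _ _ _
  map_eq_zero_of_eq' q i j hij hne :=
    Matrix.det_zero_of_row_eq (i := Sum.inr i) (j := Sum.inr j) (fun h => hne (Sum.inr_injective h)) (by
      show s (q i) = s (q j)
      rw [hij])

variable (ι : (Fin r → B) →ₗ[B] (Fin r ⊕ Fin m → B)) (l : (Fin r ⊕ Fin m → B) →ₗ[B] (Fin r → B))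
  (π : (Fin r ⊕ Fin m → B) →ₗ[B] Q) (s : Q →ₗ[B] (Fin r ⊕ Fin m → B))

/-- The shuffle product of `det ∘ l` and the universal form composed with `π`. -/
noncomputable def psi : (Fin r ⊕ Fin m → B) [⋀^Fin r ⊕ Fin m]→ₗ[B] (⋀[B]^m Q) :=
  (TensorProduct.lid B (⋀[B]^m Q)).toLinearMap.compAlternatingMap
    ((Matrix.detRowAlternating.compLinearMap l).domCoprod ((exteriorPower.ιMulti B m).compLinearMap π))

theorem psi_apply (hl : l ∘ₗ ι = LinearMap.id) (hπι : π ∘ₗ ι = 0) (hπs : π ∘ₗ s = LinearMap.id)
    (q : Fin m → Q) :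
    psi l π (Sum.elim (fun i => ι (Pi.single i 1)) (fun j => s (q j))) = exteriorPower.ιMulti B m q := by
  classical
  set v : Fin r ⊕ Fin m → (Fin r ⊕ Fin m → B) :=
    Sum.elim (fun i => ι (Pi.single i 1)) (fun j => s (q j)) with hv
  set a := Matrix.detRowAlternating.compLinearMap l with ha
  set b := (exteriorPower.ιMulti B m).compLinearMap π with hb
  have hne : ∀ σ : Equiv.Perm.ModSumCongr (Fin r) (Fin m), σ ≠ Quotient.mk'' 1 →
      AlternatingMap.domCoprod.summand a b σ v = 0 := by
    intro σ
    induction σ using Quotient.inductionOn' with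
    | h σ =>
      intro hσ
      by_cases h : ∀ j, ∃ j', σ (Sum.inr j) = Sum.inr j'
      · refine (hσ ?_).elim
        have himg : (Finset.univ.image fun j => σ (Sum.inr j)) =
            (Finset.univ.image (Sum.inr : Fin m → Fin r ⊕ Fin m)) := by
          refine Finset.eq_of_subset_of_card_le (fun x hx => ?_) ?_
          · obtain ⟨j, -, rfl⟩ := Finset.mem_image.1 hx
            obtain ⟨j', hj'⟩ := h j
            exact Finset.mem_image.2 ⟨j', Finset.mem_univ _, hj'.symm⟩
          · rw [Finset.card_image_of_injective _ (show Function.Injective (fun j => σ (Sum.inr j)) from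
              σ.injective.comp Sum.inr_injective), Finset.card_image_of_injective _ Sum.inr_injective]
        have hmap : Set.MapsTo σ (Set.range Sum.inl) (Set.range Sum.inl) := by
          rintro _ ⟨i, rfl⟩
          cases hx : σ (Sum.inl i) with
          | inl i' => exact ⟨i', rfl⟩
          | inr j =>
            obtain ⟨j', -, hj'⟩ := Finset.mem_image.1
              (himg ▸ Finset.mem_image.2 ⟨j, Finset.mem_univ _, rfl⟩ :
                (Sum.inr j : Fin r ⊕ Fin m) ∈ Finset.univ.image fun j => σ (Sum.inr j))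
            exact absurd (σ.injective (hj'.trans hx.symm)) (by simp)
        refine Quotient.sound' ?_
        rw [QuotientGroup.leftRel_apply, mul_one]
        exact Subgroup.inv_mem _ (Equiv.Perm.mem_sumCongrHom_range_of_perm_mapsTo_inl hmap)
      · push Not at h
        obtain ⟨j, hj⟩ := h
        have hb0 : b (fun i => v (σ (Sum.inr i))) = 0 := by
          cases hx : σ (Sum.inr j) with
          | inr j' => exact absurd hx (hj j')
          | inl i =>
            rw [hb, AlternatingMap.compLinearMap_apply]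
            refine (exteriorPower.ιMulti B m).map_coord_zero j ?_
            show π (v (σ (Sum.inr j))) = 0
            rw [hx]
            exact LinearMap.congr_fun hπι _
        simp only [AlternatingMap.domCoprod.summand, Quotient.liftOn'_mk'', MultilinearMap.domDomCongr_apply,
          MultilinearMap.domCoprod_apply, _root_.smul_apply, AlternatingMap.coe_multilinearMap]
        rw [hb0, TensorProduct.tmul_zero, smul_zero]
  show TensorProduct.lid B _ (a.domCoprod b v) = _
  rw [← AlternatingMap.coe_multilinearMap (a.domCoprod b), AlternatingMap.domCoprod_coe, _root_.sum_apply]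
  refine (congrArg _ (Finset.sum_eq_single (Quotient.mk'' 1) (fun σ _ hσ => hne σ hσ)
    (fun h => absurd (Finset.mem_univ _) h))).trans ?_
  simp only [AlternatingMap.domCoprod.summand, Quotient.liftOn'_mk'', MultilinearMap.domDomCongr_apply,
    MultilinearMap.domCoprod_apply, _root_.smul_apply, AlternatingMap.coe_multilinearMap, map_one, one_smul,
    Equiv.Perm.one_apply, TensorProduct.lid_tmul]
  have h1 : a (fun i => v (Sum.inl i)) = 1 := by
    rw [ha, AlternatingMap.compLinearMap_apply]
    have : (fun i => l (v (Sum.inl i))) = (1 : Matrix (Fin r) (Fin r) B) := by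
      funext i j
      show l (ι (Pi.single i 1)) j = _
      rw [← LinearMap.comp_apply, hl, LinearMap.id_apply, Matrix.one_apply, Pi.single_apply]
      split_ifs with h1 h2 <;> simp_all [eq_comm]
    show Matrix.det _ = 1
    erw [this, Matrix.det_one]
  rw [h1, one_smul, hb, AlternatingMap.compLinearMap_apply]
  congr 1
  funext j
  show π (s (q j)) = q j
  exact LinearMap.congr_fun hπs _

theorem exists_det_notMem (hl : l ∘ₗ ι = LinearMap.id) (hπι : π ∘ₗ ι = 0)
    (hdec : ι ∘ₗ l + s ∘ₗ π = LinearMap.id) (𝔪 : Ideal B) [𝔪.IsMaximal] :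
    ∃ q : Fin m → Q, phi ι s q ∉ 𝔪 := by
  classical
  letI := Ideal.Quotient.field 𝔪
  let μ := Ideal.Quotient.mk 𝔪
  let U := (LinearMap.toMatrix' ι).map μ
  let V := (LinearMap.toMatrix' l).map μ
  have hVU : V * U = 1 := by
    rw [← Matrix.map_mul, ← LinearMap.toMatrix'_comp, hl, LinearMap.toMatrix'_id, Matrix.map_one _ (map_zero μ) (map_one μ)]
  have hVUv : ∀ c, V.mulVec (U.mulVec c) = c := fun c => by rw [Matrix.mulVec_mulVec, hVU, Matrix.one_mulVec]
  have hVsurj : Function.Surjective V.mulVecLin := fun c => ⟨U.mulVec c, hVUv c⟩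
  have hrank : Module.finrank (B ⧸ 𝔪) (LinearMap.ker V.mulVecLin) = m := by
    have h := LinearMap.finrank_range_add_finrank_ker V.mulVecLin
    rw [LinearMap.range_eq_top.2 hVsurj, finrank_top, Module.finrank_pi, Module.finrank_pi, Fintype.card_sum,
      Fintype.card_fin, Fintype.card_fin] at h
    omega
  let w := Module.finBasisOfFinrankEq (B ⧸ 𝔪) _ hrank
  choose x hx using fun j => (Function.Surjective.comp_left (Ideal.Quotient.mk_surjective (I := 𝔪))
    (α := Fin r ⊕ Fin m)) ((w j : Fin r ⊕ Fin m → B ⧸ 𝔪))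
  refine ⟨fun j => π (x j), fun hmem => ?_⟩
  have hli : LinearIndependent (B ⧸ 𝔪)
      (Sum.elim (fun i => U.mulVec (Pi.single i 1)) (fun j => ((w j : Fin r ⊕ Fin m → B ⧸ 𝔪)))) := by
    refine LinearIndependent.sum_type ?_ (w.linearIndependent.map' (LinearMap.ker V.mulVecLin).subtype (Submodule.ker_subtype _)) ?_
    · refine LinearIndependent.of_comp V.mulVecLin ?_
      have : (⇑V.mulVecLin ∘ fun i => U.mulVec (Pi.single i 1)) = ⇑(Pi.basisFun (B ⧸ 𝔪) (Fin r)) := by
        funext i
        show V.mulVec (U.mulVec _) = _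
        rw [hVUv, Pi.basisFun_apply]
      rw [this]
      exact (Pi.basisFun (B ⧸ 𝔪) (Fin r)).linearIndependent
    · refine Submodule.disjoint_def.2 fun z hz1 hz2 => ?_
      have hz2' : V.mulVec z = 0 := by
        have : z ∈ LinearMap.ker V.mulVecLin := by
          refine Submodule.span_le.2 ?_ hz2
          rintro _ ⟨j, rfl⟩
          exact (w j).2
        exact this
      have hz1' : ∃ c, U.mulVec c = z := by
        have : z ∈ LinearMap.range U.mulVecLin := by
          refine Submodule.span_le.2 ?_ hz1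
          rintro _ ⟨i, rfl⟩
          exact ⟨_, rfl⟩
        exact this
      obtain ⟨c, rfl⟩ := hz1'
      rw [hVUv] at hz2'
      rw [hz2', Matrix.mulVec_zero]
  have hdet : (Matrix.of (Sum.elim (fun i => U.mulVec (Pi.single i 1))
      (fun j => ((w j : Fin r ⊕ Fin m → B ⧸ 𝔪))))).det ≠ 0 := fun h0 => by
    have h2 := (Matrix.isUnit_iff_isUnit_det (Matrix.of (Sum.elim (fun i => U.mulVec (Pi.single i 1))
      (fun j => ((w j : Fin r ⊕ Fin m → B ⧸ 𝔪)))))).1 (Matrix.linearIndependent_rows_iff_isUnit.1 hli)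
    exact h2.ne_zero h0
  refine hdet ?_
  rw [← Ideal.Quotient.eq_zero_iff_mem] at hmem
  rw [← hmem]
  show _ = μ (Matrix.det _)
  rw [RingHom.map_det]
  congr 1
  ext a b
  rcases a with i | j
  · show U.mulVec (Pi.single i 1) b = μ (ι (Pi.single i 1) b)
    rw [← LinearMap.toMatrix'_mulVec, RingHom.map_mulVec]
    congr 1
    funext c
    simp [μ, Pi.single_apply, apply_ite]
  · show (w j : Fin r ⊕ Fin m → B ⧸ 𝔪) b = μ (s (π (x j)) b)
    have hs : s (π (x j)) = x j - ι (l (x j)) := by
      have := LinearMap.congr_fun hdec (x j)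
      rw [LinearMap.add_apply, LinearMap.id_apply] at this
      exact eq_sub_of_add_eq' this
    have hk : V.mulVec (fun c => μ (x j c)) = 0 := by
      rw [show (fun c => μ (x j c)) = (w j : Fin r ⊕ Fin m → B ⧸ 𝔪) from hx j]
      exact (w j).2
    have hl0 : (fun c => μ (l (x j) c)) = 0 := by
      rw [← hk]
      funext c
      rw [← LinearMap.toMatrix'_mulVec l (x j), RingHom.map_mulVec]
      rfl
    rw [hs, Pi.sub_apply, map_sub, ← LinearMap.toMatrix'_mulVec ι (l (x j)), RingHom.map_mulVec,
      show (⇑μ ∘ l (x j)) = 0 from hl0, Matrix.mulVec_zero, Pi.zero_apply, sub_zero]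
    exact (congrFun (hx j) b).symm

/-- The top exterior power of the cokernel is free of rank one. -/
theorem nonempty_equiv (hl : l ∘ₗ ι = LinearMap.id) (hπι : π ∘ₗ ι = 0) (hπs : π ∘ₗ s = LinearMap.id)
    (hdec : ι ∘ₗ l + s ∘ₗ π = LinearMap.id) : Nonempty ((⋀[B]^m Q) ≃ₗ[B] B) := by
  classical
  let φ : (⋀[B]^m Q) →ₗ[B] B := exteriorPower.alternatingMapLinearEquiv (phi ι s)
  let ω : ⋀[B]^m Q := psi l π (Pi.basisFun B (Fin r ⊕ Fin m))
  have hpsi : ∀ v : Fin r ⊕ Fin m → (Fin r ⊕ Fin m → B), psi l π v = (Matrix.of v).det • ω := by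
    have e : psi l π = (LinearMap.toSpanSingleton B (⋀[B]^m Q) ω).compAlternatingMap
        (Matrix.detRowAlternating : (Fin r ⊕ Fin m → B) [⋀^Fin r ⊕ Fin m]→ₗ[B] B) := by
      refine (Pi.basisFun B (Fin r ⊕ Fin m)).ext_alternating fun v hv => ?_
      obtain ⟨σ, rfl⟩ : ∃ σ : Equiv.Perm (Fin r ⊕ Fin m), ⇑σ = v :=
        ⟨Equiv.ofBijective v (Finite.injective_iff_bijective.1 hv), rfl⟩
      show psi l π (fun i => Pi.basisFun B (Fin r ⊕ Fin m) (σ i)) =
        (Matrix.of fun i => Pi.basisFun B (Fin r ⊕ Fin m) (σ i) : Matrix (Fin r ⊕ Fin m) (Fin r ⊕ Fin m) B).det • ω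
      rw [show (fun i => Pi.basisFun B (Fin r ⊕ Fin m) (σ i)) =
        (⇑(Pi.basisFun B (Fin r ⊕ Fin m)) ∘ ⇑σ) from rfl, AlternatingMap.map_perm]
      have : Matrix.of (⇑(Pi.basisFun B (Fin r ⊕ Fin m)) ∘ ⇑σ) =
          Equiv.Perm.permMatrix B σ := by
        ext a b
        simp [Equiv.Perm.permMatrix, PEquiv.toMatrix_apply, Pi.single_apply, eq_comm]
      erw [this, Matrix.det_permutation]
      simp only [Units.smul_def, ω]
      exact (Int.cast_smul_eq_zsmul B _ _).symm
    intro v
    rw [e]; rfl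
  have hW : ∀ q, exteriorPower.ιMulti B m q = phi ι s q • ω := fun q => by
    rw [← psi_apply ι l π s hl hπι hπs q, hpsi]
    rfl
  have hφω : φ ω = 1 := by
    have hid : ∀ q, (φ ω - 1) * phi ι s q = 0 := fun q => by
      have h := congrArg φ (hW q)
      rw [map_smul, exteriorPower.alternatingMapLinearEquiv_apply_ιMulti, smul_eq_mul] at h
      rw [sub_mul, one_mul, mul_comm, ← h, sub_self]
    have htop : Ideal.span (Set.range (phi ι s)) = ⊤ := by
      by_contra h
      obtain ⟨𝔪, h𝔪, hle⟩ := Ideal.exists_le_maximal _ h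
      obtain ⟨q, hq⟩ := exists_det_notMem ι l π s hl hπι hdec 𝔪
      exact hq (hle (Ideal.subset_span ⟨q, rfl⟩))
    refine sub_eq_zero.1 ?_
    have h1 : (1 : B) ∈ Ideal.span (Set.range (phi ι s)) := htop ▸ Submodule.mem_top
    have h2 : Ideal.span (Set.range (phi ι s)) ≤ LinearMap.ker (LinearMap.mulLeft B (φ ω - 1)) := by
      refine Ideal.span_le.2 ?_
      rintro _ ⟨q, rfl⟩
      exact hid q
    simpa using h2 h1
  refine ⟨LinearEquiv.ofLinear φ (LinearMap.toSpanSingleton B _ ω) ?_ ?_⟩
  · ext; simpa using hφω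
  · refine exteriorPower.linearMap_ext (AlternatingMap.ext fun q => ?_)
    show φ (exteriorPower.ιMulti B m q) • ω = exteriorPower.ιMulti B m q
    rw [exteriorPower.alternatingMapLinearEquiv_apply_ιMulti, ← hW]

end Groth.Agent.H1DetSeq
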